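/-
Alternating sections of `E₆`, `E₇`, `E₈`: the `s`-part of the kernel is central.
-/
import Cfsg.Agent.AE.Lift1

set_option autoImplicit false

namespace CfsgAE

open Subgroup CfsgH7 Module
open scoped commutatorElement

universe w

theorem elem_bound {r : ℕ} (hr : 9 ≤ r) {H : Type w} [Group H] [Finite H]
    (π : H →* alternatingGroup (Fin r)) (hπ : Function.Surjective π) {A : Type*}
    [CommGroup A] [Finite A] (l : ℕ) [Fact l.Prime] (hl : ∀ a : A, a ^ l = 1)
    (φ : H →* MulAut A) (hφ : ∀ h, φ h = 1 → π h = 1) :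
    l ^ (r - 1 - (if l ∣ r then 1 else 0)) ≤ Nat.card A := by
  haveI : Module (ZMod l) (Additive A) := AddCommGroup.zmodModule fun x => hl x.toMul
  let θ : H →* End (ZMod l) (Additive A) :=
    { toFun := fun h => (MonoidHom.toAdditive (φ h).toMonoidHom).toZModLinearMap l
      map_one' := LinearMap.ext fun x => by
        rw [map_one]
        rfl
      map_mul' := fun g h => by ext x; simp }
  have hθ : ∀ h, θ h = 1 → π h = 1 := fun h e => hφ h (MulEquiv.ext fun a =>
    (LinearMap.congr_fun e (Additive.ofMul a) :))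
  obtain ⟨ρ', h'⟩ := base_change (algebraMap (ZMod l) (AlgebraicClosure (ZMod l))) θ
  have := altP hr (finrank (ZMod l) (Additive A)) _ l _ H π ρ' hπ (fun h e => hθ h (h' h e)) (by simp)
  have h2 := Module.natCard_eq_pow_finrank (K := ZMod l) (V := Additive A)
  rw [Nat.card_zmod] at h2
  exact (Nat.pow_le_pow_right (Fact.out : l.Prime).pos this).trans h2.ge

theorem cen_of_bound {r s : ℕ} [Fact s.Prime] (hr : 9 ≤ r) {H : Type w} [Group H] [Finite H]
    (π : H →* alternatingGroup (Fin r)) (hπ : Function.Surjective π)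
    (hmin : ∀ M : Subgroup H, M.map π = ⊤ → M = ⊤)
    (hb : ∀ R : Subgroup H, IsPGroup s R → ∀ (A : Type w) [CommGroup A] (f : R →* A),
      Function.Surjective f → (∀ a : A, a ^ s = 1) →
        Nat.card A < s ^ (r - 1 - (if s ∣ r then 1 else 0))) : CenK π s := by
  haveI := alternatingGroup.isSimpleGroup (α := Fin r) (by simp; omega)
  have hN : ∀ M : Subgroup H, M.Normal → M ≤ π.ker ∨ M = ⊤ := fun M hM =>
    ((hM.map π hπ).eq_bot_or_eq_top).imp (Subgroup.map_eq_bot_iff _).1 (hmin M)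
  rintro k hk ⟨e, he⟩
  obtain ⟨P, hP⟩ := (show IsPGroup s (zpowers (⟨k, hk⟩ : π.ker)) from fun ⟨_, i, rfl⟩ =>
    ⟨e, Subtype.ext (Subtype.ext (by
      simp only [SubmonoidClass.coe_pow, OneMemClass.coe_one, SubgroupClass.coe_zpow]
      rw [← zpow_natCast, ← zpow_mul, mul_comm, zpow_mul, zpow_natCast, he, one_zpow]))⟩).exists_le_sylow
  have hPn : (P.1.map π.ker.subtype).Normal := normalizer_eq_top_iff.1 (hmin _ (by
    have := congrArg (map π) P.normalizer_sup_eq_top
    rwa [Subgroup.map_sup, (Subgroup.map_eq_bot_iff _).2 le_rfl, sup_bot_eq, map_top_of_surjective _ hπ] at this))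
  rw [← mem_center_iff]
  by_contra hZ
  obtain ⟨R, ⟨hR, hRP, hRZ⟩, hm⟩ := exists_minimal_of_wellFoundedLT
    (fun R : Subgroup H => R.Normal ∧ R ≤ P.1.map π.ker.subtype ∧ ¬ R ≤ center H)
    ⟨_, hPn, le_rfl, fun h => hZ (h ⟨_, hP (mem_zpowers _), rfl⟩)⟩
  have hm' : ∀ M : Subgroup H, M.Normal → M ≤ R → R ≤ M ∨ M ≤ center H := fun M h1 h2 =>
    or_iff_not_imp_right.2 fun h3 => hm ⟨h1, h2.trans hRP, h3⟩ h2
  have hRs : IsPGroup s R := (P.2.map _).to_le hRP
  have hRR : ⁅R, R⁆ ≤ center H := by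
    haveI := hRs.isNilpotent
    haveI : Nontrivial R := (nontrivial_iff_ne_bot _).2 fun h => hRZ (h ▸ bot_le)
    have h1 := Group.IsSolvable.commutator_lt_top_of_nontrivial R
    rw [← map_subtype_lt_map_subtype, ← MonoidHom.range_eq_map, range_subtype,
      map_subtype_commutator] at h1
    exact (hm' _ inferInstance h1.le).resolve_left h1.not_ge
  have hc' : ∀ x ∈ R, ∀ y ∈ R, y * x * y⁻¹ * x⁻¹ ∈ center H := fun x hx y hy =>
    hRR (commutator_mem_commutator hy hx)
  set A := R.map (QuotientGroup.mk' (center H)) with hAdef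
  haveI hAn : A.Normal := hR.map _ (QuotientGroup.mk'_surjective _)
  have hAc : ∀ a b : A, a * b = b * a := by
    rintro ⟨_, x, hx, rfl⟩ ⟨_, y, hy, rfl⟩
    apply Subtype.ext
    have := (QuotientGroup.eq_one_iff _).2 (hc' y hy x hx)
    simpa [mul_inv_eq_one, mul_inv_eq_iff_eq_mul] using this
  letI : CommGroup A := { (inferInstance : Group A) with mul_comm := hAc }
  haveI : Nontrivial A := (nontrivial_iff_ne_bot _).2 fun h => hRZ (by
    rwa [hAdef, Subgroup.map_eq_bot_iff, QuotientGroup.ker_mk'] at h)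
  have hexp : ∀ a : A, a ^ s = 1 := by
    obtain ⟨n, hn, hn'⟩ := (hRs.map (QuotientGroup.mk' (center H))).nontrivial_iff_card.1 ‹_›
    obtain ⟨a, ha⟩ := exists_prime_orderOf_dvd_card' (G := A) s (hn' ▸ dvd_pow_self s hn.ne')
    let B : Subgroup A := (powMonoidHom s).ker
    haveI : B.Characteristic := characteristic_iff_le_comap.2 fun f x hx => by
      simp only [B, mem_comap, MonoidHom.mem_ker, powMonoidHom_apply] at hx ⊢
      rw [← map_pow, hx, map_one]
    haveI : (B.map A.subtype).Normal := inferInstance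
    rcases hm' (R ⊓ (B.map A.subtype).comap (QuotientGroup.mk' _)) inferInstance inf_le_left
      with h | h
    · rintro ⟨_, x, hx, rfl⟩
      obtain ⟨b, hb, e⟩ := (h hx).2
      rw [← show b = ⟨_, x, hx, rfl⟩ from Subtype.ext e]
      exact hb
    · obtain ⟨_, x, hx, rfl⟩ := a
      have := h ⟨hx, ⟨_, x, hx, rfl⟩, by
        rw [SetLike.mem_coe, MonoidHom.mem_ker, powMonoidHom_apply, ← ha, pow_orderOf_eq_one], rfl⟩
      rw [show (⟨_, x, hx, rfl⟩ : A) = 1 from Subtype.ext ((QuotientGroup.eq_one_iff _).2 this),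
        orderOf_one] at ha
      exact ((Fact.out : s.Prime).one_lt.ne ha).elim
  let φ : H →* MulAut A := MulAut.conjNormal.comp (QuotientGroup.mk' _)
  rcases hN _ φ.normal_ker with h | h
  · exact (hb R hRs A _ (MonoidHom.subgroupMap_surjective _ R) hexp).not_ge
      (elem_bound hr π hπ s hexp φ fun x hx => h hx)
  refine hRZ fun x hx => ?_
  have h1 : ∀ g, g * x * g⁻¹ * x⁻¹ ∈ center H := fun g => by
    have e : φ g = 1 := by rw [← MonoidHom.mem_ker, h]; trivial
    have e1 := congrArg Subtype.val (DFunLike.congr_fun e ⟨_, x, hx, rfl⟩)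
    rw [← QuotientGroup.eq_one_iff]
    simpa [φ, mul_inv_eq_one] using e1
  let ψ : H →* center H :=
    { toFun := fun g => ⟨_, h1 g⟩
      map_one' := Subtype.ext (by simp)
      map_mul' := fun g k => Subtype.ext (by
        have := mem_center_iff.1 (h1 k) (x * g⁻¹ * x⁻¹)
        simp only [coe_mul]
        calc _ = g * (k * x * k⁻¹ * x⁻¹ * (x * g⁻¹ * x⁻¹)) := by group
          _ = _ := by rw [← this]; group) }
  rcases hN _ ψ.normal_ker with h2 | h2
  · refine (alt_noncomm hr fun a b => ?_).elim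
    obtain ⟨a, rfl⟩ := hπ a
    obtain ⟨b, rfl⟩ := hπ b
    have := h2 (show a * b * a⁻¹ * b⁻¹ ∈ ψ.ker by
      rw [MonoidHom.mem_ker, map_mul, map_mul, map_mul, map_inv, map_inv,
        show ψ a * ψ b = ψ b * ψ a from Subtype.ext (mem_center_iff.1 (ψ b).2 _)]
      simp)
    simpa [mul_inv_eq_one, mul_inv_eq_iff_eq_mul] using this
  · refine mem_center_iff.2 fun g => ?_
    have e : ψ g = 1 := by rw [← MonoidHom.mem_ker, h2]; trivial
    simpa [ψ, mul_inv_eq_one, mul_inv_eq_iff_eq_mul] using congrArg Subtype.val e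

theorem card_range_le {A E : Type*} [CommGroup A] [Finite A] [Group E] (f : A →* E) {s : ℕ}
    (hf : ∀ a, f a ^ s = 1) : Nat.card f.range ≤ Nat.card {a : A // a ^ s = 1} := by
  have h1 := (powMonoidHom s : A →* A).ker.card_mul_index
  have h2 := f.ker.card_mul_index
  rw [index_ker] at h1 h2
  have h3 : Nat.card (powMonoidHom s : A →* A).range ≤ Nat.card f.ker :=
    card_le_of_le (by rintro _ ⟨a, rfl⟩; simpa using hf a)
  have h4 : 0 < Nat.card f.ker := Nat.card_pos
  change _ ≤ Nat.card (powMonoidHom s : A →* A).ker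
  nlinarith

theorem tor_bound {K : Type*} [Field K] {R A G : Type*} [Group R] [Finite R] [CommGroup A] [Group G]
    {s l : ℕ} [NeZero s] (φ : R →* G) (ψ : φ.ker →* (Fin l → Kˣ)) (hψ : Function.Injective ψ)
    (f : R →* A) (hf : Function.Surjective f) (hA : ∀ a : A, a ^ s = 1) :
    Nat.card A ≤ s ^ l * (φ.ker.map f).index := by
  letI : CommGroup φ.ker :=
    { (inferInstance : Group φ.ker) with mul_comm := fun a b => hψ (by simp [mul_comm]) }
  have h1 := card_range_le (f.comp φ.ker.subtype) fun a => hA _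
  rw [MonoidHom.range_comp, range_subtype] at h1
  rw [← card_mul_index (φ.ker.map f)]
  refine Nat.mul_le_mul_right _ (h1.trans ?_)
  refine (Nat.card_le_card_of_injective (fun a => fun i => (⟨ψ a.1 i, by
    rw [mem_rootsOfUnity, ← Pi.pow_apply, ← map_pow, a.2, map_one, Pi.one_apply]⟩ :
      rootsOfUnity s K)) fun a b e => Subtype.ext (hψ (funext fun i =>
        congrArg Subtype.val (congrFun e i)))).trans ?_
  rw [Nat.card_fun, Nat.card_fin]
  exact Nat.pow_le_pow_left (card_rootsOfUnity K s) l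

theorem card_dvd_pow {G : Type*} [Group G] {s v : ℕ} [Fact s.Prime] {P : Subgroup G}
    [Finite P] (hP : IsPGroup s P) (h : ¬ s ^ (v + 1) ∣ Nat.card G) : Nat.card P ∣ s ^ v := by
  obtain ⟨j, hj⟩ := hP.exists_card_eq
  rw [hj]
  refine pow_dvd_pow s (not_lt.1 fun h' => h ((pow_dvd_pow s h').trans (hj ▸ card_subgroup_dvd_card P)))

/-- an element of order `9` -/
def m9 : Matrix (Fin 6) (Fin 6) (ZMod 2) :=
  !![0, 0, 0, 0, 0, 1; 1, 0, 0, 0, 0, 0; 0, 1, 0, 0, 0, 0; 0, 0, 1, 0, 0, 1; 0, 0, 0, 1, 0, 0;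
    0, 0, 0, 0, 1, 0]

/-- its cube -/
def m3 : Matrix (Fin 6) (Fin 6) (ZMod 2) :=
  !![0, 0, 0, 1, 0, 0; 0, 0, 0, 0, 1, 0; 0, 0, 0, 0, 0, 1; 1, 0, 0, 1, 0, 0; 0, 1, 0, 0, 1, 0;
    0, 0, 1, 0, 0, 1]

theorem m9_cube : m9 * m9 * m9 = m3 := by decide +kernel

theorem m3_cube : m3 * m3 * m3 = 1 := by decide +kernel

theorem exists_nine : ∃ g : GL (Fin 6) (ZMod 2), g ^ 3 ^ 2 = 1 ∧ g ^ 3 ≠ 1 := by
  have h : m9 ^ 9 = 1 := by
    rw [show 9 = 3 * 3 from rfl, pow_mul, pow_three', pow_three', m9_cube, m3_cube]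
  refine ⟨⟨m9, m9 ^ 8, by rw [← pow_succ', h], by rw [← pow_succ, h]⟩, Units.ext h, fun e => ?_⟩
  have := congrArg Units.val e
  rw [Units.val_pow_eq_pow_val, pow_three', m9_cube] at this
  exact absurd (congrFun (congrFun this 0) 0) (by decide)

theorem cenK_of {H : Type*} [Group H] [Finite H] {K : Type*} [Field K] {r s l : ℕ}
    (hc : (r, s, l) = (18, 3, 8) ∨ (r, s, l) = (12, 3, 6) ∨ (r, s, l) = (14, 7, 7) ∨
      (r, s, l) = (15, 5, 7))
    (π : H →* alternatingGroup (Fin r)) (hπ : Function.Surjective π)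
    (hmin : ∀ M : Subgroup H, M.map π = ⊤ → M = ⊤) (hT : TorRep K H s l) : CenK π s := by
  haveI : Fact s.Prime := ⟨by rcases hc with h | h | h | h <;> cases h <;> norm_num⟩
  haveI : NeZero s := ⟨(Fact.out : s.Prime).ne_zero⟩
  refine cen_of_bound (by rcases hc with h | h | h | h <;> cases h <;> norm_num) π hπ hmin
    fun R hR A _ f hf hA => ?_
  obtain ⟨φ, ψ, hψ⟩ := hT R hR
  refine (tor_bound φ ψ hψ f hf hA).trans_lt ?_
  have h1 := index_map_dvd φ.ker hf
  have h2 : IsPGroup s φ.range := hR.of_surjective _ φ.rangeRestrict_surjective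
  have h3 : ∀ v, ¬ s ^ (v + 1) ∣ Nat.card (GL (Fin l) (ZMod 2)) → φ.ker.index ∣ s ^ v :=
    fun v h => index_ker φ ▸ card_dvd_pow h2 h
  rw [Matrix.card_GL_field, ZMod.card] at h3
  rcases hc with h | h | h | h <;> cases h
  · have := Nat.le_of_dvd (by norm_num) (h1.trans (h3 5 (by decide +kernel)))
    norm_num at this ⊢; omega
  · have h4 := h3 4 (by decide +kernel)
    have : (φ.ker.map f).index ≠ 81 := fun e => by
      have h5 : φ.ker.index = 81 := Nat.dvd_antisymm h4 (e ▸ h1)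
      have h6 : f.ker ≤ φ.ker := by
        have h7 := index_comap_of_surjective (φ.ker.map f) hf
        rw [comap_map_eq, e, ← h5] at h7
        rw [← sup_eq_left]
        exact (eq_of_le_of_card_ge le_sup_left (Nat.eq_of_mul_eq_mul_right
          (Nat.pos_of_ne_zero index_ne_zero_of_finite) ((card_mul_index _).trans
            (h7 ▸ (card_mul_index _).symm))).le).symm
      obtain ⟨g, hg, hg'⟩ := exists_nine
      obtain ⟨Q, hQ⟩ := (show IsPGroup 3 (zpowers g) from IsPGroup.of_card_dvd_pow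
        (Nat.card_zpowers g ▸ orderOf_dvd_of_pow_eq_one hg)).exists_le_sylow
      obtain ⟨Q', hQ'⟩ := h2.exists_le_sylow
      obtain ⟨x, rfl⟩ := MulAction.exists_smul_eq (GL (Fin 6) (ZMod 2)) Q Q'
      have h8 := eq_of_le_of_card_ge hQ' (by
        rw [← index_ker, h5]
        exact Nat.le_of_dvd (by norm_num) (card_dvd_pow (v := 4) (x • Q).2 (by
          rw [Matrix.card_GL_field, ZMod.card]; decide +kernel)))
      obtain ⟨a, ha⟩ : x * g * x⁻¹ ∈ φ.range := h8 ▸ ⟨g, hQ (mem_zpowers g), rfl⟩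
      have : φ (a ^ 3) = 1 := h6 (show f (a ^ 3) = 1 by rw [map_pow, hA])
      rw [map_pow, ha, conj_pow, conj_eq_one_iff] at this
      exact hg' this
    obtain ⟨k, hk, e⟩ := (Nat.dvd_prime_pow Nat.prime_three).1 (h1.trans h4)
    rw [e] at this ⊢
    interval_cases k <;> simp_all
  · have := Nat.le_of_dvd (by norm_num) (h1.trans (h3 2 (by decide +kernel)))
    norm_num at this ⊢; omega
  · have := Nat.le_of_dvd (by norm_num) (h1.trans (h3 1 (by decide +kernel)))
    norm_num at this ⊢; omega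

end CfsgAE
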